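import Mathlib.RingTheory.Derivation.Basic
import Mathlib.RingTheory.Etale.Basic
import Mathlib.RingTheory.RingHom.Etale
import Mathlib.Algebra.TrivSqZeroExt.Basic
import Mathlib.Algebra.TrivSqZeroExt.Ideal

/-! Extension of derivations along étale ring maps. -/

set_option autoImplicit false
universe u

open TrivSqZeroExt

namespace Groth.L07.EtDerExt

abbrev Dual (B : Type u) [CommRing B] : Type u := TrivSqZeroExt B B

noncomputable def dualMap {B B' : Type u} [CommRing B] [CommRing B'] (φ : B →+* B') :
    Dual B →+* Dual B' where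
  toFun x := inl (φ x.fst) + inr (φ x.snd)
  map_one' := by ext <;> simp
  map_mul' x y := by ext <;> simp [mul_comm]
  map_zero' := by ext <;> simp
  map_add' x y := by ext <;> simp

noncomputable def derHom {A : Type u} [CommRing A] (θ : Derivation ℤ A A) : A →+* Dual A where
  toFun a := inl a + inr (θ a)
  map_one' := by ext <;> simp
  map_mul' a b := by ext <;> simp [mul_comm]
  map_zero' := by ext <;> simp
  map_add' a b := by ext <;> simp

theorem exists_ext {A B : Type u} [CommRing A] [CommRing B] (θ : Derivation ℤ A A) (g : A →+* B)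
    (hg : g.Etale) :
    ∃ d : B →+ B, (∀ x y, d (x * y) = x * d y + y * d x) ∧ ∀ a, d (g a) = g (θ a) := by
  algebraize [g]
  letI : Algebra A (Dual B) := ((dualMap g).comp (derHom θ)).toAlgebra
  let p : Dual B →ₐ[A] B :=
    { toRingHom := (TrivSqZeroExt.fstHom B B B).toRingHom
      commutes' := fun a => by
        change TrivSqZeroExt.fst (dualMap g (derHom θ a)) = g a
        simp [dualMap, derHom] }
  have hp : Function.Surjective p := fun b => ⟨inl b, by simp [p]⟩
  have hnil : IsNilpotent (RingHom.ker (p : Dual B →+* B)) := by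
    refine ⟨2, ?_⟩
    have : RingHom.ker (p : Dual B →+* B) = TrivSqZeroExt.kerIdeal B B := rfl
    rw [this, TrivSqZeroExt.kerIdeal_sq]
    rfl
  let L := Algebra.FormallySmooth.liftOfSurjective (AlgHom.id A B) p hp hnil
  have hL : ∀ x, (L x).fst = x := fun x =>
    Algebra.FormallySmooth.liftOfSurjective_apply (AlgHom.id A B) p hp hnil x
  refine ⟨AddMonoidHom.mk' (fun x => (L x).snd) (fun x y => by simp), fun x y => ?_, fun a => ?_⟩
  · simp [map_mul, hL, mul_comm]
  · change (L (algebraMap A B a)).snd = g (θ a)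
    rw [L.commutes]
    change (dualMap g (derHom θ a)).snd = g (θ a)
    simp [dualMap, derHom]

theorem eq_of_eqOn {A B B' : Type u} [CommRing A] [CommRing B] [CommRing B'] (g : A →+* B)
    (hg : g.Etale) (φ : B →+* B') (d₁ d₂ : B →+ B')
    (h₁ : ∀ x y, d₁ (x * y) = φ x * d₁ y + φ y * d₁ x)
    (h₂ : ∀ x y, d₂ (x * y) = φ x * d₂ y + φ y * d₂ x)
    (h : ∀ a, d₁ (g a) = d₂ (g a)) : d₁ = d₂ := by
  algebraize [g]
  let mk (d : B →+ B') (hd : ∀ x y, d (x * y) = φ x * d y + φ y * d x) : B →+* Dual B' :=
    { toFun := fun x => inl (φ x) + inr (d x)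
      map_one' := by
        have := hd 1 1
        simp at this
        ext <;> simp [this]
      map_mul' := fun x y => by ext <;> simp [hd, mul_comm]
      map_zero' := by ext <;> simp
      map_add' := fun x y => by ext <;> simp }
  letI : Algebra A (Dual B') := ((mk d₁ h₁).comp g).toAlgebra
  let a₁ : B →ₐ[A] Dual B' := { toRingHom := mk d₁ h₁, commutes' := fun a => rfl }
  let a₂ : B →ₐ[A] Dual B' :=
    { toRingHom := mk d₂ h₂
      commutes' := fun a => by
        change mk d₂ h₂ (g a) = mk d₁ h₁ (g a)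
        ext
        · simp [mk]
        · simp [mk, h] }
  have heq : a₁ = a₂ := by
    refine Algebra.FormallyUnramified.ext (TrivSqZeroExt.kerIdeal B' B')
      ⟨2, TrivSqZeroExt.kerIdeal_sq B' B'⟩ fun x => ?_
    rw [Ideal.Quotient.eq, TrivSqZeroExt.kerIdeal, RingHom.mem_ker]
    simp [a₁, a₂, mk]
  ext x
  have := congrArg TrivSqZeroExt.snd (AlgHom.congr_fun heq x)
  simpa [a₁, a₂, mk] using this

end Groth.L07.EtDerExt
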